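import Mathlib
import Cfsg.Agent.Lib.Helper98.S43.MatDefs

set_option autoImplicit false

/-! # Project S43 (S3439): the matrix datum (machine generated) and its identities -/

open scoped Matrix

namespace Cfsg.Agent.Lib.Helper98.S43

/-- The datum: a 24-dimensional module `N = N₀ ⊕ N₁ ⊕ N₂` over `ZMod 3` for `Q ⋊ F₂₀`,
`Q` of dimension 8. -/
def D0 : MatData where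
  Am := ![Matrix.of ![![0, 0, 0, 0], ![0, 0, 0, 0], ![0, 0, 0, 0], ![0, 0, 0, 0], ![0, 0, 0, 0], ![0, 0, 0, 0], ![0, 0, 0, 0], ![0, 0, 0, 0], ![0, 0, 0, 0], ![0, 0, 0, 0], ![0, 0, 0, 0], ![0, 0, 0, 0], ![1, 0, 0, 0], ![0, 1, 1, 0], ![0, 2, 0, 1], ![0, 2, 1, 1]],
    Matrix.of ![![0, 0, 0, 0], ![0, 0, 0, 0], ![0, 0, 0, 0], ![0, 0, 0, 0], ![0, 0, 0, 0], ![0, 0, 0, 0], ![0, 0, 0, 0], ![0, 0, 0, 0], ![0, 0, 0, 0], ![0, 0, 0, 0], ![0, 0, 0, 0], ![0, 0, 0, 0], ![0, 1, 0, 0], ![2, 0, 1, 2], ![1, 0, 2, 2], ![1, 0, 0, 1]],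
    Matrix.of ![![0, 0, 0, 0], ![0, 0, 0, 0], ![0, 0, 0, 0], ![0, 0, 0, 0], ![1, 0, 0, 0], ![0, 1, 1, 0], ![0, 2, 0, 1], ![0, 2, 1, 1], ![0, 0, 0, 0], ![0, 0, 0, 0], ![0, 0, 0, 0], ![0, 0, 0, 0], ![0, 0, 0, 0], ![0, 0, 0, 0], ![0, 0, 0, 0], ![0, 0, 0, 0]],
    Matrix.of ![![0, 0, 0, 0], ![0, 0, 0, 0], ![0, 0, 0, 0], ![0, 0, 0, 0], ![0, 1, 0, 0], ![2, 0, 1, 2], ![1, 0, 2, 2], ![1, 0, 0, 1], ![0, 0, 0, 0], ![0, 0, 0, 0], ![0, 0, 0, 0], ![0, 0, 0, 0], ![0, 0, 0, 0], ![0, 0, 0, 0], ![0, 0, 0, 0], ![0, 0, 0, 0]],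
    Matrix.of ![![0, 0, 0, 0], ![0, 0, 0, 0], ![0, 0, 0, 0], ![0, 0, 0, 0], ![0, 0, 0, 0], ![0, 0, 0, 0], ![0, 0, 0, 0], ![0, 0, 0, 0], ![2, 1, 0, 0], ![2, 2, 0, 2], ![1, 1, 2, 1], ![1, 1, 2, 0], ![1, 1, 0, 0], ![2, 1, 2, 2], ![1, 2, 2, 0], ![1, 2, 1, 2]],
    Matrix.of ![![0, 0, 0, 0], ![0, 0, 0, 0], ![0, 0, 0, 0], ![0, 0, 0, 0], ![0, 0, 0, 0], ![0, 0, 0, 0], ![0, 0, 0, 0], ![0, 0, 0, 0], ![1, 0, 0, 0], ![0, 1, 1, 0], ![0, 2, 0, 1], ![0, 2, 1, 1], ![0, 2, 0, 0], ![1, 0, 2, 1], ![2, 0, 1, 1], ![2, 0, 0, 2]],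
    Matrix.of ![![2, 1, 0, 0], ![2, 2, 0, 2], ![1, 1, 2, 1], ![1, 1, 2, 0], ![1, 1, 0, 0], ![2, 1, 2, 2], ![1, 2, 2, 0], ![1, 2, 1, 2], ![0, 0, 0, 0], ![0, 0, 0, 0], ![0, 0, 0, 0], ![0, 0, 0, 0], ![0, 0, 0, 0], ![0, 0, 0, 0], ![0, 0, 0, 0], ![0, 0, 0, 0]],
    Matrix.of ![![1, 0, 0, 0], ![0, 1, 1, 0], ![0, 2, 0, 1], ![0, 2, 1, 1], ![0, 2, 0, 0], ![1, 0, 2, 1], ![2, 0, 1, 1], ![2, 0, 0, 2], ![0, 0, 0, 0], ![0, 0, 0, 0], ![0, 0, 0, 0], ![0, 0, 0, 0], ![0, 0, 0, 0], ![0, 0, 0, 0], ![0, 0, 0, 0], ![0, 0, 0, 0]]]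
  Bm := ![Matrix.of ![![1, 0, 0, 0, 0, 0, 0, 0, 0, 0, 0, 0, 0, 0, 0, 0], ![0, 1, 0, 0, 0, 0, 0, 0, 0, 0, 0, 0, 0, 0, 0, 0], ![0, 0, 1, 0, 0, 0, 0, 0, 0, 0, 0, 0, 0, 0, 0, 0], ![0, 0, 0, 1, 0, 0, 0, 0, 0, 0, 0, 0, 0, 0, 0, 0]],
    Matrix.of ![![0, 1, 1, 2, 0, 0, 0, 0, 0, 0, 0, 0, 0, 0, 0, 0], ![2, 2, 0, 2, 0, 0, 0, 0, 0, 0, 0, 0, 0, 0, 0, 0], ![1, 2, 2, 0, 0, 0, 0, 0, 0, 0, 0, 0, 0, 0, 0, 0], ![1, 1, 2, 2, 0, 0, 0, 0, 0, 0, 0, 0, 0, 0, 0, 0]],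
    Matrix.of ![![0, 0, 0, 0, 0, 0, 0, 0, 2, 0, 0, 0, 0, 0, 0, 0], ![0, 0, 0, 0, 0, 0, 0, 0, 0, 2, 0, 0, 0, 0, 0, 0], ![0, 0, 0, 0, 0, 0, 0, 0, 0, 0, 2, 0, 0, 0, 0, 0], ![0, 0, 0, 0, 0, 0, 0, 0, 0, 0, 0, 2, 0, 0, 0, 0]],
    Matrix.of ![![0, 0, 0, 0, 0, 0, 0, 0, 0, 2, 2, 1, 0, 0, 0, 0], ![0, 0, 0, 0, 0, 0, 0, 0, 1, 1, 0, 1, 0, 0, 0, 0], ![0, 0, 0, 0, 0, 0, 0, 0, 2, 1, 1, 0, 0, 0, 0, 0], ![0, 0, 0, 0, 0, 0, 0, 0, 2, 2, 1, 1, 0, 0, 0, 0]],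
    Matrix.of ![![1, 1, 1, 2, 1, 2, 2, 1, 0, 0, 0, 0, 0, 0, 0, 0], ![2, 0, 0, 2, 1, 2, 0, 1, 0, 0, 0, 0, 0, 0, 0, 0], ![1, 2, 0, 0, 2, 1, 2, 0, 0, 0, 0, 0, 0, 0, 0, 0], ![1, 1, 2, 0, 2, 2, 1, 2, 0, 0, 0, 0, 0, 0, 0, 0]],
    Matrix.of ![![0, 2, 2, 1, 2, 0, 0, 0, 0, 0, 0, 0, 0, 0, 0, 0], ![1, 1, 0, 1, 0, 2, 0, 0, 0, 0, 0, 0, 0, 0, 0, 0], ![2, 1, 1, 0, 0, 0, 2, 0, 0, 0, 0, 0, 0, 0, 0, 0], ![2, 2, 1, 1, 0, 0, 0, 2, 0, 0, 0, 0, 0, 0, 0, 0]],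
    Matrix.of ![![0, 0, 0, 0, 0, 0, 0, 0, 2, 2, 2, 1, 2, 1, 1, 2], ![0, 0, 0, 0, 0, 0, 0, 0, 1, 0, 0, 1, 2, 1, 0, 2], ![0, 0, 0, 0, 0, 0, 0, 0, 2, 1, 0, 0, 1, 2, 1, 0], ![0, 0, 0, 0, 0, 0, 0, 0, 2, 2, 1, 0, 1, 1, 2, 1]],
    Matrix.of ![![0, 0, 0, 0, 0, 0, 0, 0, 0, 1, 1, 2, 1, 0, 0, 0], ![0, 0, 0, 0, 0, 0, 0, 0, 2, 2, 0, 2, 0, 1, 0, 0], ![0, 0, 0, 0, 0, 0, 0, 0, 1, 2, 2, 0, 0, 0, 1, 0], ![0, 0, 0, 0, 0, 0, 0, 0, 1, 1, 2, 2, 0, 0, 0, 1]]]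
  Cm := ![Matrix.of ![![0, 0, 0, 0], ![0, 0, 0, 0], ![0, 0, 0, 0], ![0, 0, 0, 0]],
    Matrix.of ![![0, 0, 0, 0], ![0, 0, 0, 0], ![0, 0, 0, 0], ![0, 0, 0, 0]],
    Matrix.of ![![0, 0, 0, 0], ![0, 0, 0, 0], ![0, 0, 0, 0], ![0, 0, 0, 0]],
    Matrix.of ![![0, 0, 0, 0], ![0, 0, 0, 0], ![0, 0, 0, 0], ![0, 0, 0, 0]],
    Matrix.of ![![0, 0, 0, 0], ![0, 0, 0, 0], ![0, 0, 0, 0], ![0, 0, 0, 0]],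
    Matrix.of ![![0, 0, 0, 0], ![0, 0, 0, 0], ![0, 0, 0, 0], ![0, 0, 0, 0]],
    Matrix.of ![![0, 0, 0, 0], ![0, 0, 0, 0], ![0, 0, 0, 0], ![0, 0, 0, 0]],
    Matrix.of ![![0, 0, 0, 0], ![0, 0, 0, 0], ![0, 0, 0, 0], ![0, 0, 0, 0]]]
  b0 := Matrix.of ![![2, 1, 0, 1], ![2, 2, 2, 2], ![2, 0, 0, 2], ![2, 1, 2, 1]]
  b1 := Matrix.of ![![1, 2, 2, 2, 1, 2, 2, 2, 0, 0, 0, 0, 0, 0, 0, 0], ![2, 2, 0, 0, 2, 2, 0, 0, 0, 0, 0, 0, 0, 0, 0, 0], ![2, 2, 2, 0, 2, 2, 2, 0, 0, 0, 0, 0, 0, 0, 0, 0], ![2, 2, 2, 2, 2, 2, 2, 2, 0, 0, 0, 0, 0, 0, 0, 0], ![1, 0, 1, 2, 0, 1, 2, 0, 0, 0, 0, 0, 0, 0, 0, 0], ![2, 1, 2, 2, 0, 2, 2, 2, 0, 0, 0, 0, 0, 0, 0, 0], ![1, 2, 1, 2, 2, 0, 2, 2, 0, 0, 0, 0, 0, 0, 0, 0], ![0, 1, 2, 1, 1, 2, 0, 2, 0,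 0, 0, 0, 0, 0, 0, 0], ![0, 0, 0, 0, 0, 0, 0, 0, 1, 2, 2, 2, 1, 2, 2, 2], ![0, 0, 0, 0, 0, 0, 0, 0, 2, 2, 0, 0, 2, 2, 0, 0], ![0, 0, 0, 0, 0, 0, 0, 0, 2, 2, 2, 0, 2, 2, 2, 0], ![0, 0, 0, 0, 0, 0, 0, 0, 2, 2, 2, 2, 2, 2, 2, 2], ![0, 0, 0, 0, 0, 0, 0, 0, 1, 0, 1, 2, 0, 1, 2, 0], ![0, 0, 0, 0, 0, 0, 0, 0, 2, 1, 2, 2, 0, 2, 2, 2], ![0, 0, 0, 0, 0, 0, 0, 0, 1, 2, 1, 2, 2, 0, 2, 2], ![0, 0, 0, 0, 0, 0, 0, 0, 0, 1, 2, 1, 1, 2, 0, 2]]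
  b2 := Matrix.of ![![2, 2, 0, 1], ![1, 0, 2, 2], ![0, 1, 0, 2], ![2, 0, 1, 0]]
  bQ := Matrix.of ![![2, 1, 0, 0, 0, 1, 0, 0], ![2, 2, 0, 0, 2, 2, 0, 0], ![0, 0, 2, 1, 0, 0, 0, 1], ![0, 0, 2, 2, 0, 0, 2, 2], ![2, 0, 0, 0, 0, 2, 0, 0], ![2, 1, 0, 0, 2, 1, 0, 0], ![0, 0, 2, 0, 0, 0, 0, 2], ![0, 0, 2, 1, 0, 0, 2, 1]]
  c0 := Matrix.of ![![1, 0, 0, 0], ![0, 2, 0, 0], ![0, 0, 1, 1], ![0, 0, 1, 2]]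
  c1 := Matrix.of ![![1, 2, 2, 1, 0, 0, 0, 0, 0, 0, 0, 0, 0, 0, 0, 0], ![2, 2, 1, 2, 0, 0, 0, 0, 0, 0, 0, 0, 0, 0, 0, 0], ![1, 0, 0, 2, 0, 0, 0, 0, 0, 0, 0, 0, 0, 0, 0, 0], ![1, 0, 2, 0, 0, 0, 0, 0, 0, 0, 0, 0, 0, 0, 0, 0], ![1, 2, 2, 1, 1, 0, 0, 0, 0, 0, 0, 0, 0, 0, 0, 0], ![2, 2, 1, 2, 0, 0, 0, 1, 0, 0, 0, 0, 0, 0, 0, 0], ![1, 0, 0, 2, 0, 0, 1, 1, 0, 0, 0, 0, 0, 0, 0, 0], ![1, 0, 2, 0, 0, 1, 2, 1, 0, 0, 0, 0, 0, 0, 0, 0], ![0, 0, 0, 0, 0, 0, 0, 0, 1, 2, 2, 1, 0, 0, 0, 0], ![0, 0, 0, 0, 0, 0, 0, 0, 2, 2, 1, 2, 0, 0, 0, 0], ![0, 0, 0, 0, 0, 0, 0, 0, 1, 0, 0, 2, 0, 0, 0, 0], ![0, 0, 0, 0, 0, 0, 0, 0, 1, 0, 2, 0, 0, 0, 0, 0], ![0, 0, 0, 0, 0, 0, 0, 0, 1, 2, 2, 1, 1, 0, 0, 0], ![0, 0, 0, 0, 0, 0, 0, 0, 2, 2, 1,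 2, 0, 0, 0, 1], ![0, 0, 0, 0, 0, 0, 0, 0, 1, 0, 0, 2, 0, 0, 1, 1], ![0, 0, 0, 0, 0, 0, 0, 0, 1, 0, 2, 0, 0, 1, 2, 1]]
  c2 := Matrix.of ![![1, 2, 2, 1], ![2, 2, 1, 2], ![1, 0, 0, 2], ![1, 0, 2, 0]]
  cQ := Matrix.of ![![1, 0, 0, 0, 0, 0, 0, 0], ![0, 2, 0, 0, 0, 0, 0, 0], ![0, 0, 1, 0, 0, 0, 0, 0], ![0, 0, 0, 2, 0, 0, 0, 0], ![0, 0, 0, 0, 1, 1, 0, 0], ![0, 0, 0, 0, 1, 2, 0, 0], ![0, 0, 0, 0, 0, 0, 1, 1], ![0, 0, 0, 0, 0, 0, 1, 2]]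

set_option maxRecDepth 100000 in
theorem d0_sym : ∀ j k, D0.Bm j * D0.Am k = D0.Bm k * D0.Am j := by decide +kernel

set_option maxRecDepth 100000 in
theorem d0_b5 : D0.b0 ^ 5 = 1 ∧ D0.b1 ^ 5 = 1 ∧ D0.b2 ^ 5 = 1 ∧ D0.bQ ^ 5 = 1 := by
  decide +kernel

set_option maxRecDepth 100000 in
theorem d0_c4 : D0.c0 ^ 4 = 1 ∧ D0.c1 ^ 4 = 1 ∧ D0.c2 ^ 4 = 1 ∧ D0.cQ ^ 4 = 1 := by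
  decide +kernel

set_option maxRecDepth 100000 in
theorem d0_rel : D0.c0 * D0.b0 = D0.b0 ^ 3 * D0.c0 ∧ D0.c1 * D0.b1 = D0.b1 ^ 3 * D0.c1 ∧
    D0.c2 * D0.b2 = D0.b2 ^ 3 * D0.c2 ∧ D0.cQ * D0.bQ = D0.bQ ^ 3 * D0.cQ := by
  decide +kernel

set_option maxRecDepth 100000 in
theorem d0_bA : ∀ j, D0.b1 * D0.Am j = ∑ k, D0.bQ k j • (D0.Am k * D0.b0) := by decide +kernel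

set_option maxRecDepth 100000 in
theorem d0_bB : ∀ j, D0.b2 * D0.Bm j = ∑ k, D0.bQ k j • (D0.Bm k * D0.b1) := by decide +kernel

set_option maxRecDepth 100000 in
theorem d0_bC : ∀ j, D0.b2 * D0.Cm j = ∑ k, D0.bQ k j • (D0.Cm k * D0.b0) := by decide +kernel

set_option maxRecDepth 100000 in
theorem d0_cA : ∀ j, D0.c1 * D0.Am j = ∑ k, D0.cQ k j • (D0.Am k * D0.c0) := by decide +kernel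

set_option maxRecDepth 100000 in
theorem d0_cB : ∀ j, D0.c2 * D0.Bm j = ∑ k, D0.cQ k j • (D0.Bm k * D0.c1) := by decide +kernel

set_option maxRecDepth 100000 in
theorem d0_cC : ∀ j, D0.c2 * D0.Cm j = ∑ k, D0.cQ k j • (D0.Cm k * D0.c0) := by decide +kernel

set_option maxRecDepth 100000 in
theorem d0_fpf : 1 + D0.b0 + D0.b0 ^ 2 + D0.b0 ^ 3 + D0.b0 ^ 4 = 0 ∧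
    1 + D0.b1 + D0.b1 ^ 2 + D0.b1 ^ 3 + D0.b1 ^ 4 = 0 ∧
    1 + D0.b2 + D0.b2 ^ 2 + D0.b2 ^ 3 + D0.b2 ^ 4 = 0 ∧
    1 + D0.bQ + D0.bQ ^ 2 + D0.bQ ^ 3 + D0.bQ ^ 4 = 0 := by
  decide +kernel

set_option maxRecDepth 100000 in
theorem d0_nine : ∃ j k, D0.Bm j * D0.Am k ≠ 0 := by
  refine ⟨0, 6, ?_⟩
  decide +kernel

set_option maxRecDepth 100000 in
theorem d0_cQ2 : D0.cQ ^ 2 = Matrix.diagonal (fun i : Fin 8 => if i.1 < 4 then (1 : ZMod 3) else -1) := by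
  decide +kernel

set_option maxRecDepth 100000 in
theorem d0_c02 : D0.c0 ^ 2 = Matrix.diagonal (fun i : Fin 4 => if i.1 < 2 then (1 : ZMod 3) else -1) := by
  decide +kernel

set_option maxRecDepth 100000 in
theorem d0_fix : ∀ j k : Fin 8, j.1 < 4 → k.1 < 4 → ∀ i l : Fin 4, l.1 < 2 →
    (D0.Bm j * D0.Am k) i l = 0 := by
  decide +kernel

set_option maxRecDepth 100000 in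
theorem d0_c : ∃ v : Fin 4 → ZMod 3, v ≠ 0 ∧ D0.c2 *ᵥ v = v := by
  refine ⟨![0, 1, 1, 2], ?_⟩
  decide +kernel

theorem d0_good : D0.Good :=
  ⟨d0_sym, d0_b5, d0_c4, d0_rel, d0_bA, d0_bB, d0_bC, d0_cA, d0_cB, d0_cC, d0_fpf, d0_nine,
    d0_cQ2, d0_c02, d0_fix, d0_c⟩

end Cfsg.Agent.Lib.Helper98.S43
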